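import Groth.Agent.GenSubLib.Universal
import Groth.Agent.S5366
import Groth.Agent.ASp.Constructible
import Groth.Agent.AffLim.Immersion
import Mathlib.AlgebraicGeometry.AlgClosed.Basic

/-!
# Iterated commutator words of a group scheme, and the locus where they are trivial on the fibres
-/

set_option autoImplicit false
set_option backward.isDefEq.respectTransparency false
set_option linter.style.haveILetI false
set_option linter.unusedSectionVars false

universe u

open CategoryTheory CategoryTheory.Limits MonoidalCategory CartesianMonoidalCategory MonObj AlgebraicGeometry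
open scoped commutatorElement

noncomputable section

namespace Groth.Agent.SolvLocusLib

variable {S : Scheme.{u}} (G : Over S) [GrpObj G]

/-- Precomposition. -/
def preHom {T T' : Over S} (s : T' ⟶ T) : (T ⟶ G) →* (T' ⟶ G) where
  toFun f := s ≫ f
  map_one' := MonObj.comp_one s
  map_mul' f g := MonObj.comp_mul s f g

/-- Points transported along an isomorphism. -/
def isoPts {T T' : Over S} (e : T' ≅ T) : (T ⟶ G) ≃* (T' ⟶ G) where
  toFun f := e.hom ≫ f
  invFun f := e.inv ≫ f
  left_inv f := e.inv_hom_id_assoc f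
  right_inv f := e.hom_inv_id_assoc f
  map_mul' f g := MonObj.comp_mul e.hom f g

/-- The derived words. -/
def W : ℕ → Σ P : Over S, P ⟶ G
  | 0 => ⟨G, 𝟙 G⟩
  | n + 1 => ⟨(W n).1 ⊗ (W n).1, ⁅fst (W n).1 (W n).1 ≫ (W n).2, snd (W n).1 (W n).1 ≫ (W n).2⁆⟩

/-- The central words. -/
def V : ℕ → Σ P : Over S, P ⟶ G
  | 0 => ⟨G, 𝟙 G⟩
  | n + 1 => ⟨(V n).1 ⊗ G, ⁅fst (V n).1 G ≫ (V n).2, snd (V n).1 G⁆⟩

variable {T : Over S}

theorem lift_W (n : ℕ) (a b : T ⟶ (W G n).1) :
    lift a b ≫ (W G (n + 1)).2 = ⁅a ≫ (W G n).2, b ≫ (W G n).2⁆ := by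
  show preHom G (lift a b) ⁅fst _ _ ≫ (W G n).2, snd _ _ ≫ (W G n).2⁆ = _
  rw [map_commutatorElement]
  show ⁅lift a b ≫ fst _ _ ≫ _, lift a b ≫ snd _ _ ≫ _⁆ = _
  rw [lift_fst_assoc, lift_snd_assoc]

theorem lift_V (n : ℕ) (a : T ⟶ (V G n).1) (b : T ⟶ G) :
    lift a b ≫ (V G (n + 1)).2 = ⁅a ≫ (V G n).2, b⁆ := by
  show preHom G (lift a b) ⁅fst _ _ ≫ (V G n).2, snd _ _⁆ = _
  rw [map_commutatorElement]
  show ⁅lift a b ≫ fst _ _ ≫ _, lift a b ≫ snd _ _⁆ = _
  rw [lift_fst_assoc, lift_snd]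

theorem eta_W (n : ℕ) (t : T ⟶ (W G n).1 ⊗ (W G n).1) :
    t ≫ (W G (n + 1)).2 = ⁅(t ≫ fst _ _) ≫ (W G n).2, (t ≫ snd _ _) ≫ (W G n).2⁆ := by
  have := lift_W G n (t ≫ fst _ _) (t ≫ snd _ _)
  rwa [lift_comp_fst_snd] at this

theorem eta_V (n : ℕ) (t : T ⟶ (V G n).1 ⊗ G) :
    t ≫ (V G (n + 1)).2 = ⁅(t ≫ fst _ _) ≫ (V G n).2, t ≫ snd _ _⁆ := by
  have := lift_V G n (t ≫ fst _ _) (t ≫ snd _ _)
  rwa [lift_comp_fst_snd] at this

variable (T) in
abbrev SW (n : ℕ) : Set (T ⟶ G) := Set.range fun t => t ≫ (W G n).2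

variable (T) in
abbrev SV (n : ℕ) : Set (T ⟶ G) := Set.range fun t => t ≫ (V G n).2

theorem conj_SW (n : ℕ) : ∀ g : T ⟶ G, ∀ a ∈ SW G T n, g * a * g⁻¹ ∈ SW G T n := by
  induction n with
  | zero => intro g a _; exact ⟨g * a * g⁻¹, Category.comp_id _⟩
  | succ n ih =>
    rintro g _ ⟨t, rfl⟩
    obtain ⟨t1, h1⟩ := ih g _ ⟨t ≫ fst _ _, rfl⟩
    obtain ⟨t2, h2⟩ := ih g _ ⟨t ≫ snd _ _, rfl⟩
    refine ⟨lift t1 t2, (lift_W G n t1 t2).trans ?_⟩
    simp only at h1 h2 ⊢
    rw [h1, h2]
    exact (map_commutatorElement (MulAut.conj g).toMonoidHom _ _).symm.trans (congrArg (fun z => g * z * g⁻¹) (eta_W G n t).symm)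

theorem conj_SV (n : ℕ) : ∀ g : T ⟶ G, ∀ a ∈ SV G T n, g * a * g⁻¹ ∈ SV G T n := by
  induction n with
  | zero => intro g a _; exact ⟨g * a * g⁻¹, Category.comp_id _⟩
  | succ n ih =>
    rintro g _ ⟨t, rfl⟩
    obtain ⟨t1, h1⟩ := ih g _ ⟨t ≫ fst _ _, rfl⟩
    refine ⟨lift t1 (g * (t ≫ snd _ _) * g⁻¹), (lift_V G n t1 _).trans ?_⟩
    simp only at h1 ⊢
    rw [h1]
    exact (map_commutatorElement (MulAut.conj g).toMonoidHom _ _).symm.trans (congrArg (fun z => g * z * g⁻¹) (eta_V G n t).symm)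

theorem derivedSeries_eq (n : ℕ) : derivedSeries (T ⟶ G) n = Subgroup.closure (SW G T n) := by
  induction n with
  | zero =>
    exact ((Subgroup.eq_top_iff' _).2 fun g => Subgroup.subset_closure (show g ∈ SW G T 0 from ⟨g, Category.comp_id g⟩)).symm
  | succ n ih =>
    rw [derivedSeries_succ, ih]
    refine le_antisymm ((S5366.commutator_closure_le _ _ (conj_SW G n) (conj_SW G n)).trans ((Subgroup.closure_le _).2 ?_)) ((Subgroup.closure_le _).2 ?_)
    · rintro _ ⟨_, ⟨t1, rfl⟩, _, ⟨t2, rfl⟩, rfl⟩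
      exact Subgroup.subset_closure ⟨lift t1 t2, lift_W G n t1 t2⟩
    · rintro _ ⟨t, rfl⟩
      show t ≫ _ ∈ _
      erw [eta_W]
      exact Subgroup.commutator_mem_commutator (Subgroup.subset_closure ⟨_, rfl⟩) (Subgroup.subset_closure ⟨_, rfl⟩)

theorem lcs_eq (n : ℕ) : Subgroup.lowerCentralSeries (⊤ : Subgroup (T ⟶ G)) n = Subgroup.closure (SV G T n) := by
  induction n with
  | zero => exact ((Subgroup.eq_top_iff' _).2 fun g => Subgroup.subset_closure (show g ∈ SV G T 0 from ⟨g, Category.comp_id g⟩)).symm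
  | succ n ih =>
    show ⁅Subgroup.lowerCentralSeries _ n, _⁆ = _
    rw [ih]
    refine le_antisymm ?_ ((Subgroup.closure_le _).2 ?_)
    · rw [← Subgroup.closure_univ]
      refine (S5366.commutator_closure_le _ _ (conj_SV G n) (fun _ _ _ => Set.mem_univ _)).trans ((Subgroup.closure_le _).2 ?_)
      rintro _ ⟨_, ⟨t1, rfl⟩, b, -, rfl⟩
      exact Subgroup.subset_closure ⟨lift t1 b, lift_V G n t1 b⟩
    · rintro _ ⟨t, rfl⟩
      show t ≫ _ ∈ _
      erw [eta_V]
      exact Subgroup.commutator_mem_commutator (Subgroup.subset_closure ⟨_, rfl⟩) (Subgroup.mem_top _)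

theorem smooth_W [Smooth G.hom] : ∀ n, Smooth (W G n).1.hom := by
  intro n
  induction n with
  | zero => exact ‹Smooth G.hom›
  | succ n ih =>
    haveI := ih
    exact inferInstanceAs (Smooth (pullback.fst (W G n).1.hom (W G n).1.hom ≫ (W G n).1.hom))

theorem smooth_V [Smooth G.hom] : ∀ n, Smooth (V G n).1.hom := by
  intro n
  induction n with
  | zero => exact ‹Smooth G.hom›
  | succ n ih =>
    haveI := ih
    exact inferInstanceAs (Smooth (pullback.fst (V G n).1.hom G.hom ≫ (V G n).1.hom))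

/-- The points of the base over which a morphism to the group is not trivial. -/
def badSet {P : Over S} (w : P ⟶ G) : Set S := P.hom '' (w.left ⁻¹' (Set.range η[G].left))ᶜ

theorem isOpen_badSet [IsSeparated G.hom] {P : Over S} [Smooth P.hom] (w : P ⟶ G) : IsOpen (badSet G w) := by
  haveI : IsClosedImmersion (η[G].left ≫ G.hom) := by
    rw [Over.w η[G]]; exact inferInstanceAs (IsClosedImmersion (𝟙 S))
  haveI : IsClosedImmersion η[G].left := IsClosedImmersion.of_comp η[G].left G.hom
  exact P.hom.isOpenMap _ ((η[G].left.isClosedEmbedding.isClosed_range.preimage w.left.continuous).isOpen_compl)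

theorem notMem_badSet_iff {P : Over S} [LocallyOfFiniteType P.hom] (w : P ⟶ G) (Ω : Type u) [Field Ω]
    [IsAlgClosed Ω] (z : Spec (CommRingCat.of Ω) ⟶ S) (s : S) (hz : ∀ p, z p = s) :
    s ∉ badSet G w ↔ ∀ t : Over.mk z ⟶ P, t ≫ w = 1 := by
  haveI : IsImmersion (η[G].left ≫ G.hom) := by
    rw [Over.w η[G]]; exact inferInstanceAs (IsImmersion (𝟙 S))
  haveI : IsImmersion η[G].left := IsImmersion.of_comp η[G].left G.hom
  constructor
  · intro hs t
    haveI : IsReduced (Over.mk z).left := inferInstanceAs (IsReduced (Spec (CommRingCat.of Ω)))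
    obtain ⟨l, hl⟩ := GenSubLib.exists_lift_immersion η[G] (t ≫ w) (by
      rintro _ ⟨p, rfl⟩
      by_contra hp
      refine hs ⟨t.left p, hp, ?_⟩
      rw [← Scheme.Hom.comp_apply, Over.w t]
      exact hz p)
    rw [← hl, Hom.one_def, toUnit_unique l (toUnit _)]
  · rintro h ⟨x, hx, hxs⟩
    let q := pullback.snd P.hom z
    haveI : LocallyOfFiniteType q := MorphismProperty.pullback_snd _ _ ‹LocallyOfFiniteType P.hom›
    haveI : JacobsonSpace ↥(pullback P.hom z) := LocallyOfFiniteType.jacobsonSpace q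
    have hne : (pullback.fst P.hom z ⁻¹' (w.left ⁻¹' (Set.range η[G].left))ᶜ).Nonempty := by
      obtain ⟨v, hv⟩ : x ∈ Set.range (pullback.fst P.hom z) := by
        rw [Scheme.Pullback.range_fst]
        exact ⟨IsLocalRing.closedPoint Ω, (hz _).trans hxs.symm⟩
      exact ⟨v, show pullback.fst P.hom z v ∈ _ from hv ▸ hx⟩
    obtain ⟨v, hv, hvc⟩ : ∃ v, v ∈ pullback.fst P.hom z ⁻¹' (w.left ⁻¹' (Set.range η[G].left))ᶜ ∧
        v ∈ closedPoints ↥(pullback P.hom z) := by
      obtain ⟨O, C, hOo, hCc, hOC⟩ :=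
        ((η[G].left.isLocallyClosed_range).preimage w.left.continuous).preimage (pullback.fst P.hom z).continuous
      rw [Set.preimage_compl, hOC, Set.compl_inter] at hne ⊢
      obtain ⟨v₀, hv₀⟩ := hne
      rcases hv₀ with h' | h'
      · obtain ⟨v, hv, hvc⟩ := nonempty_inter_closedPoints ⟨v₀, h'⟩ hOo.isClosed_compl.isLocallyClosed
        exact ⟨v, Or.inl hv, hvc⟩
      · obtain ⟨v, hv, hvc⟩ := nonempty_inter_closedPoints ⟨v₀, h'⟩ hCc.isOpen_compl.isLocallyClosed
        exact ⟨v, Or.inr hv, hvc⟩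
    let t : Over.mk z ⟶ P := Over.homMk (pointOfClosedPoint q v hvc ≫ pullback.fst P.hom z) (by
      show (pointOfClosedPoint q v hvc ≫ pullback.fst P.hom z) ≫ P.hom = z
      rw [Category.assoc, pullback.condition, pointOfClosedPoint_comp_assoc])
    refine hv ?_
    have h1 := congrArg (fun m : Over.mk z ⟶ G => m.left (IsLocalRing.closedPoint Ω)) (h t)
    dsimp only at h1
    rw [Hom.one_def, Over.comp_left, Over.comp_left, Scheme.Hom.comp_apply, Scheme.Hom.comp_apply] at h1
    have h2 : t.left (IsLocalRing.closedPoint Ω) = pullback.fst P.hom z v := by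
      show (pointOfClosedPoint q v hvc ≫ pullback.fst P.hom z) (IsLocalRing.closedPoint Ω) = _
      rw [Scheme.Hom.comp_apply, pointOfClosedPoint_apply]
    rw [h2] at h1
    exact ⟨_, h1.symm⟩

theorem isLocallyConstructible_badSet [LocallyOfFinitePresentation G.hom] [QuasiSeparated G.hom] {P : Over S}
    [LocallyOfFinitePresentation P.hom] [QuasiCompact P.hom] (w : P ⟶ G) :
    Topology.IsLocallyConstructible (badSet G w) := by
  haveI : LocallyOfFinitePresentation (η[G].left ≫ G.hom) := by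
    rw [Over.w η[G]]; exact inferInstanceAs (LocallyOfFinitePresentation (𝟙 S))
  haveI : LocallyOfFinitePresentation η[G].left :=
    ASp.locallyOfFinitePresentation_of_comp η[G].left G.hom inferInstance inferInstance
  haveI : QuasiCompact (η[G].left ≫ G.hom) := by
    rw [Over.w η[G]]; exact inferInstanceAs (QuasiCompact (𝟙 S))
  haveI : QuasiCompact η[G].left := QuasiCompact.of_comp η[G].left G.hom
  exact P.hom.isLocallyConstructible_image (AffLim.isLocallyConstructible_compl
    (ASp.isLocallyConstructible_preimage w.left (AffLim.isLocallyConstructible_range η[G].left)))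

theorem props_W [LocallyOfFinitePresentation G.hom] [QuasiCompact G.hom] : ∀ n,
    LocallyOfFinitePresentation (W G n).1.hom ∧ QuasiCompact (W G n).1.hom := by
  intro n
  induction n with
  | zero => exact ⟨‹_›, ‹_›⟩
  | succ n ih =>
    haveI := ih.1
    haveI := ih.2
    exact ⟨inferInstanceAs (LocallyOfFinitePresentation (pullback.fst (W G n).1.hom (W G n).1.hom ≫ (W G n).1.hom)),
      inferInstanceAs (QuasiCompact (pullback.fst (W G n).1.hom (W G n).1.hom ≫ (W G n).1.hom))⟩

theorem props_V [LocallyOfFinitePresentation G.hom] [QuasiCompact G.hom] : ∀ n,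
    LocallyOfFinitePresentation (V G n).1.hom ∧ QuasiCompact (V G n).1.hom := by
  intro n
  induction n with
  | zero => exact ⟨‹_›, ‹_›⟩
  | succ n ih =>
    haveI := ih.1
    haveI := ih.2
    exact ⟨inferInstanceAs (LocallyOfFinitePresentation (pullback.fst (V G n).1.hom G.hom ≫ (V G n).1.hom)),
      inferInstanceAs (QuasiCompact (pullback.fst (V G n).1.hom G.hom ≫ (V G n).1.hom))⟩

/-- Points over a geometric point are points of the geometric fibre. -/
def fibrePts (Ω : Type u) [Field Ω] (z : Spec (CommRingCat.of Ω) ⟶ S) :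
    (Over.mk z ⟶ G) ≃* (𝟙_ (Over (Spec (CommRingCat.of Ω))) ⟶ Red.bc z G) :=
  (isoPts G (Over.isoMk (Iso.refl _) (by simp) : (Over.map z).obj (𝟙_ (Over (Spec (CommRingCat.of Ω)))) ≅ Over.mk z)).trans
    { toEquiv := (Over.mapPullbackAdj z).homEquiv (𝟙_ _) G
      map_mul' := fun a b => by
        show (Over.mapPullbackAdj z).homEquiv _ _ (a * b) = _
        rw [Adjunction.homEquiv_unit, Functor.map_mul, MonObj.comp_mul]
        rfl }

theorem derivedSeries_congr {A B : Type*} [Group A] [Group B] (e : A ≃* B) (n : ℕ) :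
    derivedSeries A n = ⊥ ↔ derivedSeries B n = ⊥ := by
  rw [← map_derivedSeries_eq (f := e.toMonoidHom) e.surjective, Subgroup.map_eq_bot_iff_of_injective _ e.injective]

theorem lcs_congr {A B : Type*} [Group A] [Group B] (e : A ≃* B) (n : ℕ) :
    (⊤ : Subgroup A).lowerCentralSeries n = ⊥ ↔ (⊤ : Subgroup B).lowerCentralSeries n = ⊥ := by
  rw [← Subgroup.map_eq_bot_iff_of_injective _ (f := e.toMonoidHom) e.injective, Subgroup.map_lowerCentralSeries,
    Subgroup.map_top_of_surjective _ e.surjective]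

theorem closure_range_eq_bot {P T : Over S} {w : P ⟶ G} :
    Subgroup.closure (Set.range fun t : T ⟶ P => t ≫ w) = ⊥ ↔ ∀ t : T ⟶ P, t ≫ w = 1 := by
  rw [Subgroup.closure_eq_bot_iff, Set.range_subset_iff]
  simp

/-- The points over which the derived series of the geometric fibre reaches the trivial group by step n. -/
def derivedLocus (n : ℕ) : Set S :=
  {s : S | derivedSeries (𝟙_ (Over (Spec (CommRingCat.of (AlgebraicClosure (S.residueField s))))) ⟶
      Red.geomFibre s G) n = ⊥}

/-- The points over which the lower central series of the geometric fibre reaches the trivial group by step n. -/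
def lcsLocus (n : ℕ) : Set S :=
  {s : S | (⊤ : Subgroup (𝟙_ (Over (Spec (CommRingCat.of (AlgebraicClosure (S.residueField s))))) ⟶
      Red.geomFibre s G)).lowerCentralSeries n = ⊥}

theorem derivedLocus_eq (n : ℕ) [LocallyOfFiniteType (W G n).1.hom] : derivedLocus G n = (badSet G (W G n).2)ᶜ := by
  ext s
  rw [Set.mem_compl_iff, notMem_badSet_iff G (W G n).2 _ (Red.geomPt s) s (fun p => by
    rw [Scheme.Hom.comp_apply]
    exact Scheme.fromSpecResidueField_apply s _)]
  show derivedSeries _ n = ⊥ ↔ _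
  rw [← derivedSeries_congr (fibrePts G _ (Red.geomPt s)) n, derivedSeries_eq G n, closure_range_eq_bot]

theorem lcsLocus_eq (n : ℕ) [LocallyOfFiniteType (V G n).1.hom] : lcsLocus G n = (badSet G (V G n).2)ᶜ := by
  ext s
  rw [Set.mem_compl_iff, notMem_badSet_iff G (V G n).2 _ (Red.geomPt s) s (fun p => by
    rw [Scheme.Hom.comp_apply]
    exact Scheme.fromSpecResidueField_apply s _)]
  show _ = ⊥ ↔ _
  rw [← lcs_congr (fibrePts G _ (Red.geomPt s)) n, lcs_eq G n, closure_range_eq_bot]

theorem isClosed_derived [Smooth G.hom] [IsSeparated G.hom] (n : ℕ) : IsClosed (derivedLocus G n) := by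
  haveI := smooth_W G n
  rw [derivedLocus_eq]
  exact (isOpen_badSet G _).isClosed_compl

theorem isClosed_lcs [Smooth G.hom] [IsSeparated G.hom] (n : ℕ) : IsClosed (lcsLocus G n) := by
  haveI := smooth_V G n
  rw [lcsLocus_eq]
  exact (isOpen_badSet G _).isClosed_compl

theorem isLocallyConstructible_derived [LocallyOfFinitePresentation G.hom] [QuasiCompact G.hom]
    [QuasiSeparated G.hom] (n : ℕ) : Topology.IsLocallyConstructible (derivedLocus G n) := by
  obtain ⟨h1, h2⟩ := props_W G n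
  haveI := h1
  haveI := h2
  rw [derivedLocus_eq]
  exact AffLim.isLocallyConstructible_compl (isLocallyConstructible_badSet G _)

theorem isLocallyConstructible_lcs [LocallyOfFinitePresentation G.hom] [QuasiCompact G.hom]
    [QuasiSeparated G.hom] (n : ℕ) : Topology.IsLocallyConstructible (lcsLocus G n) := by
  obtain ⟨h1, h2⟩ := props_V G n
  haveI := h1
  haveI := h2
  rw [lcsLocus_eq]
  exact AffLim.isLocallyConstructible_compl (isLocallyConstructible_badSet G _)

end Groth.Agent.SolvLocusLib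

end
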