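import Groth.Agent.SolvLocusLib.Field
import Groth.Agent.SolvLocusLib.Words
import Groth.Agent.GenIrredLib.Constr
import Groth.Agent.FLCLib.Topology

/-!
# Bounds on the geometric fibres over an affine open of the base
-/

set_option autoImplicit false
set_option backward.isDefEq.respectTransparency false
set_option linter.style.haveILetI false
set_option linter.unusedSectionVars false

universe u

open CategoryTheory CategoryTheory.Limits MonoidalCategory CartesianMonoidalCategory MonObj AlgebraicGeometry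
open scoped TensorProduct

noncomputable section

namespace Groth.Agent.SolvLocusLib

variable {S : Scheme.{u}} (G : Over S) [GrpObj G]

theorem finite_components {k : Type u} [Field k] {X : Scheme.{u}} (f : X ⟶ Spec (CommRingCat.of k))
    [LocallyOfFiniteType f] [QuasiCompact f] : Finite (_root_.ConnectedComponents X) := by
  haveI : CompactSpace X := QuasiCompact.compactSpace_of_compactSpace f
  haveI : IsLocallyNoetherian X := LocallyOfFiniteType.isLocallyNoetherian f
  haveI : IsNoetherian X := ⟨⟩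
  haveI := (TopologicalSpace.NoetherianSpace.finite_irreducibleComponents (α := X)).to_subtype
  refine Finite.of_surjective (fun Z : irreducibleComponents X =>
    ConnectedComponents.mk (Z.2.1.nonempty.choose : X)) fun q => ?_
  obtain ⟨x, rfl⟩ := ConnectedComponents.surjective_coe q
  refine ⟨⟨irreducibleComponent x, irreducibleComponent_mem_irreducibleComponents x⟩, ?_⟩
  refine ConnectedComponents.coe_eq_coe'.2 ?_
  exact isIrreducible_irreducibleComponent.isConnected.subset_connectedComponent mem_irreducibleComponent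
    (irreducibleComponent_mem_irreducibleComponents x).1.nonempty.choose_spec

instance smooth_geomFibre [Smooth G.hom] (s : S) : Smooth (Red.geomFibre s G).hom :=
  MorphismProperty.pullback_snd _ _ ‹Smooth G.hom›

instance locallyOfFiniteType_geomFibre [LocallyOfFiniteType G.hom] (s : S) :
    LocallyOfFiniteType (Red.geomFibre s G).hom :=
  MorphismProperty.pullback_snd _ _ ‹LocallyOfFiniteType G.hom›

instance quasiCompact_geomFibre [QuasiCompact G.hom] (s : S) : QuasiCompact (Red.geomFibre s G).hom :=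
  MorphismProperty.pullback_snd _ _ ‹QuasiCompact G.hom›

variable [QuasiCompact G.hom]

/-- The number of components of the geometric fibres is bounded over an affine open. -/
theorem exists_card_bound [LocallyOfFinitePresentation G.hom] [QuasiSeparated G.hom] {U : S.Opens} (hU : IsAffineOpen U) : ∃ c : ℕ, ∀ s ∈ U,
    Nat.card (_root_.ConnectedComponents (Red.geomFibre s G).left) ≤ c := by
  let g := pullback.snd G.hom hU.fromSpec
  haveI : CompactSpace ↥(pullback G.hom hU.fromSpec) := QuasiCompact.compactSpace_of_compactSpace g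
  haveI : QuasiSeparatedSpace ↥(pullback G.hom hU.fromSpec) := quasiSeparatedSpace_of_quasiSeparated g
  have hn : ∀ p : PrimeSpectrum Γ(S, U), (GenIrredLib.nGeom g p).2 =
      ENat.card (_root_.ConnectedComponents (Red.geomFibre (hU.fromSpec p) G).left) := fun p => by
    refine (congrArg Prod.snd (GenIrredLib.nGeom_baseChange G.hom g (pullback.fst G.hom hU.fromSpec) hU.fromSpec
      (IsPullback.of_hasPullback _ _) p)).trans ?_
    have h := GenIrredLib.counts_eq_nGeom G.hom (AlgebraicClosure (S.residueField (hU.fromSpec p)))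
      (Red.geomPt (hU.fromSpec p)) (hU.fromSpec p) (by
        rw [Scheme.Hom.comp_apply]
        exact Scheme.fromSpecResidueField_apply _ _)
    exact (congrArg Prod.snd h).symm
  let C : ℕ → Set (PrimeSpectrum Γ(S, U)) := fun n => {p | (GenIrredLib.nGeom g p).2 = (n : ℕ∞)}
  obtain ⟨t, ht⟩ := FLCLib.exists_finite_subcover C
    (fun n => GenIrredLib.isConstructible_nGeom_affine Γ(S, U) g (fun q => q.2 = (n : ℕ∞))) (fun p => by
      haveI := finite_components (Red.geomFibre (hU.fromSpec p) G).hom
      exact ⟨_, (hn p).trans (ENat.card_eq_coe_natCard _)⟩)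
  refine ⟨t.sup id, fun s hs => ?_⟩
  obtain ⟨p, rfl⟩ : s ∈ Set.range hU.fromSpec := hU.range_fromSpec.ge hs
  obtain ⟨n, hnt, hpn⟩ := ht p
  haveI := finite_components (Red.geomFibre (hU.fromSpec p) G).hom
  have : (Nat.card (_root_.ConnectedComponents (Red.geomFibre (hU.fromSpec p) G).left) : ℕ∞) = n := by
    rw [← ENat.card_eq_coe_natCard, ← hn p]
    exact hpn
  rw [Nat.cast_inj.1 this]
  exact Finset.le_sup (f := id) hnt

/-- The dimension near any point of the geometric fibres is bounded over an affine open. -/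
theorem exists_dim_bound [LocallyOfFiniteType G.hom] {U : S.Opens} (hU : IsAffineOpen U) : ∃ N : ℕ, ∀ s ∈ U,
    ∀ v : (Red.geomFibre s G).left, ∃ V : (Red.geomFibre s G).left.Opens, v ∈ V ∧
      topologicalKrullDim ↥(V : Set (Red.geomFibre s G).left) ≤ (N : WithBot ℕ∞) := by
  have hcov : ∀ x : (G.hom ⁻¹ᵁ U : G.left.Opens), ∃ W : G.left.Opens, IsAffineOpen W ∧ x.1 ∈ W ∧ W ≤ G.hom ⁻¹ᵁ U :=
    fun x => exists_isAffineOpen_mem_and_subset x.2
  choose W hW hxW hWU using hcov
  obtain ⟨t, ht⟩ := (G.hom.isCompact_preimage hU.isCompact).elim_finite_subcover (fun x => (W x : Set G.left))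
    (fun x => (W x).2) (fun x hx => Set.mem_iUnion.2 ⟨⟨x, hx⟩, hxW ⟨x, hx⟩⟩)
  have hgen : ∀ x, ∃ n : ℕ, ∀ (Ω : Type u) [Field Ω] [Algebra Γ(S, U) Ω],
      letI := (G.hom.appLE U (W x) (hWU x)).hom.toAlgebra
      topologicalKrullDim ↥(Spec (CommRingCat.of (Γ(G.left, W x) ⊗[Γ(S, U)] Ω))) ≤ (n : WithBot ℕ∞) := fun x => by
    letI := (G.hom.appLE U (W x) (hWU x)).hom.toAlgebra
    haveI : Algebra.FiniteType Γ(S, U) Γ(G.left, W x) :=
      LocallyOfFiniteType.finiteType_appLE G.hom hU (hW x) (hWU x)
    obtain ⟨n, φ, hφ⟩ := Algebra.FiniteType.iff_quotient_mvPolynomial''.1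
      ‹Algebra.FiniteType Γ(S, U) Γ(G.left, W x)›
    refine ⟨n, fun Ω _ _ => ?_⟩
    let g : MvPolynomial (Fin n) Ω →+* Γ(G.left, W x) ⊗[Γ(S, U)] Ω :=
      (Algebra.TensorProduct.comm Γ(S, U) Ω Γ(G.left, W x)).toRingEquiv.toRingHom.comp
        ((Algebra.TensorProduct.map (AlgHom.id Ω Ω) φ).toRingHom.comp
          (MvPolynomial.algebraTensorAlgEquiv Γ(S, U) Ω).symm.toRingEquiv.toRingHom)
    have hg : Function.Surjective g := fun y => by
      obtain ⟨y1, rfl⟩ := (Algebra.TensorProduct.comm Γ(S, U) Ω Γ(G.left, W x)).surjective y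
      obtain ⟨y2, rfl⟩ := Algebra.TensorProduct.map_surjective (AlgHom.id Ω Ω) φ Function.surjective_id hφ y1
      obtain ⟨y3, rfl⟩ := (MvPolynomial.algebraTensorAlgEquiv Γ(S, U) Ω).symm.surjective y2
      exact ⟨y3, rfl⟩
    show topologicalKrullDim (PrimeSpectrum _) ≤ _
    rw [PrimeSpectrum.topologicalKrullDim_eq_ringKrullDim]
    refine (ringKrullDim_le_of_surjective g hg).trans ?_
    rw [MvPolynomial.ringKrullDim_of_isNoetherianRing, ringKrullDim_eq_zero_of_field, zero_add]
    simp
  choose n hn using hgen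
  refine ⟨t.sup n, fun s hs v => ?_⟩
  let z := Red.geomPt s
  let w : ↥(pullback G.hom z) := v
  have hzp : ∀ p, z p = s := fun p => by
    rw [Scheme.Hom.comp_apply]; exact Scheme.fromSpecResidueField_apply _ _
  have hw : pullback.fst G.hom z w ∈ G.hom ⁻¹ᵁ U := by
    show G.hom (pullback.fst G.hom z w) ∈ U
    rw [← Scheme.Hom.comp_apply, pullback.condition, Scheme.Hom.comp_apply]
    rw [hzp]
    exact hs
  obtain ⟨x, hxt, hwx⟩ := Set.mem_iUnion₂.1 (ht hw)
  have hzU : Set.range z ⊆ Set.range hU.fromSpec := by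
    rintro _ ⟨p, rfl⟩
    rw [hU.range_fromSpec]
    rw [hzp]
    exact hs
  obtain ⟨ψ, hψ⟩ := Spec.map_surjective (IsOpenImmersion.lift hU.fromSpec z hzU)
  have hz : Spec.map ψ ≫ hU.fromSpec = z := by rw [hψ, IsOpenImmersion.lift_fac]
  letI := (G.hom.appLE U (W x) (hWU x)).hom.toAlgebra
  letI := ψ.hom.toAlgebra
  let φ' := Spec.map (CommRingCat.ofHom (algebraMap Γ(S, U) Γ(G.left, W x)))
  let ψ' := Spec.map (CommRingCat.ofHom (algebraMap Γ(S, U) (AlgebraicClosure (S.residueField s))))
  have hφ : (hW x).fromSpec ≫ G.hom = φ' ≫ hU.fromSpec := (IsAffineOpen.SpecMap_appLE_fromSpec G.hom hU (hW x) (hWU x)).symm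
  have hψ' : z = ψ' ≫ hU.fromSpec := hz.symm
  let e : pullback φ' ψ' ≅ pullback ((hW x).fromSpec ≫ G.hom) z :=
    { hom := pullback.lift (pullback.fst _ _) (pullback.snd _ _) (by
        rw [hφ, hψ', ← Category.assoc, ← Category.assoc, pullback.condition])
      inv := pullback.lift (pullback.fst _ _) (pullback.snd _ _) (by
        rw [← cancel_mono hU.fromSpec, Category.assoc, Category.assoc, ← hφ, ← hψ', pullback.condition])
      hom_inv_id := by ext <;> simp
      inv_hom_id := by ext <;> simp }
  let j : pullback ((hW x).fromSpec ≫ G.hom) z ⟶ pullback G.hom z :=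
    pullback.map _ _ _ _ (hW x).fromSpec (𝟙 _) (𝟙 _) (by simp) (by simp)
  haveI : IsOpenImmersion j := inferInstance
  let J := (pullbackSpecIso Γ(S, U) Γ(G.left, W x) (AlgebraicClosure (S.residueField s))).inv ≫ e.hom ≫ j
  haveI : IsOpenImmersion J := MorphismProperty.comp_mem @IsOpenImmersion _ _ (IsOpenImmersion.of_isIso _)
    (MorphismProperty.comp_mem @IsOpenImmersion _ _ (haveI := Iso.isIso_hom e; IsOpenImmersion.of_isIso e.hom) ‹IsOpenImmersion j›)
  refine ⟨J.opensRange, ?_, ?_⟩
  · show v ∈ Set.range J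
    obtain ⟨a, ha⟩ : w ∈ Set.range j := by
      rw [Scheme.Pullback.range_map, (hW x).range_fromSpec]
      exact ⟨hwx, ⟨_, rfl⟩⟩
    refine ⟨(pullbackSpecIso Γ(S, U) Γ(G.left, W x) (AlgebraicClosure (S.residueField s))).hom (e.inv a), ?_⟩
    rw [← Scheme.Hom.comp_apply, ← Scheme.Hom.comp_apply]
    simp only [J, Iso.hom_inv_id_assoc, Iso.inv_hom_id_assoc]
    exact ha
  · show topologicalKrullDim ↥(Set.range J) ≤ _
    rw [← (J.isOpenEmbedding.isEmbedding.toHomeomorph).isClosedEmbedding.topologicalKrullDim_le.antisymm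
      (J.isOpenEmbedding.isEmbedding.toHomeomorph).symm.isClosedEmbedding.topologicalKrullDim_le]
    exact (hn x _).trans (WithBot.coe_le_coe.2 (Nat.cast_le.2 (Finset.le_sup hxt)))

theorem unitIso (k : Type u) [Field k] :
    Nonempty ((Over.mk (Spec.map (CommRingCat.ofHom (algebraMap k k))) : Over (Spec (CommRingCat.of k))) ≅ 𝟙_ _) :=
  ⟨Over.isoMk (Iso.refl _) (by
    show 𝟙 _ ≫ 𝟙 (Spec (CommRingCat.of k)) = _
    rw [show CommRingCat.ofHom (algebraMap k k) = 𝟙 (CommRingCat.of k) from rfl, Category.comp_id]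
    exact (Spec.map_id _).symm)⟩

/-- Solvability of a smooth group over an algebraically closed field is read on rational points. -/
theorem isSolvableGrp_iff_pts {k : Type u} [Field k] [IsAlgClosed k] (H : Over (Spec (CommRingCat.of k))) [GrpObj H]
    [Smooth H.hom] [QuasiCompact H.hom] :
    Red.IsSolvableGrp H ↔ ∃ n, derivedSeries (𝟙_ (Over (Spec (CommRingCat.of k))) ⟶ H) n = ⊥ := by
  obtain ⟨e⟩ := unitIso k
  refine exists_congr fun n => ?_
  exact ((S5366.result k H k n).1).trans (derivedSeries_congr (isoPts H e.symm) n)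

/-- Nilpotency of a smooth group over an algebraically closed field is read on rational points. -/
theorem isNilpotentGrp_iff_pts {k : Type u} [Field k] [IsAlgClosed k] (H : Over (Spec (CommRingCat.of k))) [GrpObj H]
    [Smooth H.hom] [QuasiCompact H.hom] :
    AGF.IsNilpotentGrp H ↔
      ∃ n, (⊤ : Subgroup (𝟙_ (Over (Spec (CommRingCat.of k))) ⟶ H)).lowerCentralSeries n = ⊥ := by
  obtain ⟨e⟩ := unitIso k
  rw [GenSubLib.isNilpotentGrp_iff]
  refine exists_congr fun n => ?_
  exact ((S5366.result k H k n).2).trans (lcs_congr (isoPts H e.symm) n)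

theorem smooth_geomFibre_of_fibres (hsm : ∀ s : S, Smooth (G.hom.fiberToSpecResidueField s)) (s : S) :
    Smooth (Red.geomFibre s G).hom := by
  haveI := hsm s
  let z' := Spec.map (CommRingCat.ofHom (algebraMap (S.residueField s) (AlgebraicClosure (S.residueField s))))
  have h : Smooth (pullback.snd (G.hom.fiberToSpecResidueField s) z') := MorphismProperty.pullback_snd _ _ (hsm s)
  have e : (pullbackLeftPullbackSndIso G.hom (S.fromSpecResidueField s) z').inv ≫
      pullback.snd (pullback.snd G.hom (S.fromSpecResidueField s)) z' = (Red.geomFibre s G).hom :=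
    pullbackLeftPullbackSndIso_inv_snd_snd _ _ _
  rw [← e]
  exact MorphismProperty.comp_mem @Smooth _ _ inferInstance h

theorem isLocallyConstructible_of_affine {A : Set S} (B : ℕ → Set S)
    (hB : ∀ n, Topology.IsLocallyConstructible (B n))
    (h : ∀ U : S.Opens, IsAffineOpen U → ∃ M, A ∩ (U : Set S) = B M ∩ (U : Set S)) :
    Topology.IsLocallyConstructible A := by
  refine NearGen.isLocallyConstructible_of_affine _ fun U hU => ?_
  obtain ⟨M, hM⟩ := h U hU
  have e : hU.fromSpec ⁻¹' A = hU.fromSpec ⁻¹' B M := Set.ext fun x => by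
    have hx : hU.fromSpec x ∈ U := hU.range_fromSpec.le ⟨x, rfl⟩
    exact ⟨fun h => (hM.le ⟨h, hx⟩).1, fun h => (hM.ge ⟨h, hx⟩).1⟩
  rw [e]
  exact ((hB M).preimage_of_isOpenEmbedding hU.fromSpec.isOpenEmbedding).isConstructible

theorem exists_derived_stage [LocallyOfFinitePresentation G.hom] [QuasiSeparated G.hom]
    (hsm : ∀ s : S, Smooth (Red.geomFibre s G).hom) {U : S.Opens} (hU : IsAffineOpen U) :
    ∃ M, {s : S | Red.IsSolvableGrp (Red.geomFibre s G)} ∩ (U : Set S) = derivedLocus G M ∩ (U : Set S) := by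
  obtain ⟨c, hc⟩ := exists_card_bound G hU
  obtain ⟨N, hN⟩ := exists_dim_bound G hU
  refine ⟨c + (N + 1), Set.ext fun s => and_congr_left fun hs => ?_⟩
  haveI := hsm s
  show Red.IsSolvableGrp _ ↔ derivedSeries _ _ = ⊥
  rw [isSolvableGrp_iff_pts]
  refine ⟨fun h => ?_, fun h => ⟨_, h⟩⟩
  obtain ⟨V, hV, hVN⟩ := hN s hs (GrpSchLib.unitPt (Red.geomFibre s G))
  haveI := finite_components (Red.geomFibre s G).hom
  exact derivedSeries_bound (hc s hs) V hV hVN h

theorem exists_lcs_stage [LocallyOfFinitePresentation G.hom] [QuasiSeparated G.hom]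
    (hsm : ∀ s : S, Smooth (Red.geomFibre s G).hom) {U : S.Opens} (hU : IsAffineOpen U) :
    ∃ M, {s : S | AGF.IsNilpotentGrp (Red.geomFibre s G)} ∩ (U : Set S) = lcsLocus G M ∩ (U : Set S) := by
  obtain ⟨c, hc⟩ := exists_card_bound G hU
  obtain ⟨N, hN⟩ := exists_dim_bound G hU
  refine ⟨c + (N + 1), Set.ext fun s => and_congr_left fun hs => ?_⟩
  haveI := hsm s
  show AGF.IsNilpotentGrp _ ↔ _ = ⊥
  rw [isNilpotentGrp_iff_pts]
  refine ⟨fun h => ?_, fun h => ⟨_, h⟩⟩
  obtain ⟨V, hV, hVN⟩ := hN s hs (GrpSchLib.unitPt (Red.geomFibre s G))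
  haveI := finite_components (Red.geomFibre s G).hom
  exact lcs_bound (hc s hs) V hV hVN h

theorem isClosed_of_affine {A : Set S} (B : ℕ → Set S) (hB : ∀ n, IsClosed (B n))
    (h : ∀ U : S.Opens, IsAffineOpen U → ∃ M, A ∩ (U : Set S) = B M ∩ (U : Set S)) : IsClosed A := by
  have hcov : TopologicalSpace.IsOpenCover (fun U : S.affineOpens => U.1) := iSup_affineOpens_eq_top S
  rw [hcov.isClosed_iff_coe_preimage]
  intro U
  obtain ⟨M, hM⟩ := h U.1 U.2
  have : (Subtype.val ⁻¹' A : Set ↥U.1) = Subtype.val ⁻¹' B M := Set.ext fun x => by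
    have := Set.ext_iff.1 hM x.1
    simpa using this
  rw [this]
  exact (hB M).preimage continuous_subtype_val

/-- The solvable locus is closed. -/
theorem isClosed_solvable [Smooth G.hom] [IsSeparated G.hom] :
    IsClosed {s : S | Red.IsSolvableGrp (Red.geomFibre s G)} :=
  isClosed_of_affine _ (isClosed_derived G) fun _ hU => exists_derived_stage G (fun _ => inferInstance) hU

/-- The nilpotent locus is closed. -/
theorem isClosed_nilpotent [Smooth G.hom] [IsSeparated G.hom] :
    IsClosed {s : S | AGF.IsNilpotentGrp (Red.geomFibre s G)} :=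
  isClosed_of_affine _ (isClosed_lcs G) fun _ hU => exists_lcs_stage G (fun _ => inferInstance) hU

/-- The solvable locus of a group with smooth fibres is locally constructible. -/
theorem isLocallyConstructible_solvable [LocallyOfFinitePresentation G.hom] [QuasiSeparated G.hom]
    (hsm : ∀ s : S, Smooth (G.hom.fiberToSpecResidueField s)) :
    Topology.IsLocallyConstructible {s : S | Red.IsSolvableGrp (Red.geomFibre s G)} :=
  isLocallyConstructible_of_affine _ (isLocallyConstructible_derived G) fun _ hU =>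
    exists_derived_stage G (smooth_geomFibre_of_fibres G hsm) hU

/-- The nilpotent locus of a group with smooth fibres is locally constructible. -/
theorem isLocallyConstructible_nilpotent [LocallyOfFinitePresentation G.hom] [QuasiSeparated G.hom]
    (hsm : ∀ s : S, Smooth (G.hom.fiberToSpecResidueField s)) :
    Topology.IsLocallyConstructible {s : S | AGF.IsNilpotentGrp (Red.geomFibre s G)} :=
  isLocallyConstructible_of_affine _ (isLocallyConstructible_lcs G) fun _ hU =>
    exists_lcs_stage G (smooth_geomFibre_of_fibres G hsm) hU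

end Groth.Agent.SolvLocusLib

end
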