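import Groth.Agent.GenSubLib.Derived
import Groth.Agent.GenSubLib.Nilp
import Groth.Agent.MonoFibre.RedSubgroup
import Groth.Agent.AVLib.IdSub

/-!
# Bounds for the derived and lower central series of a smooth group over an algebraically closed field

They are given by the number of connected components and the dimension near the unit.
-/

set_option autoImplicit false
set_option backward.isDefEq.respectTransparency false
set_option backward.isDefEq.respectTransparency.types false
set_option linter.style.haveILetI false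
set_option linter.unusedSectionVars false

universe u

open CategoryTheory CategoryTheory.Limits MonoidalCategory CartesianMonoidalCategory MonObj AlgebraicGeometry
open Groth.Agent.GenSubLib
open scoped commutatorElement

noncomputable section

namespace Groth.Agent.SolvLocusLib

/-- An antitone sequence of subgroups of a finite group which only stabilises at the trivial group. -/
theorem eq_bot_of_card {Q : Type*} [Group Q] [Finite Q] (E : ℕ → Subgroup Q) (hE : Antitone E)
    (hst : ∀ n, E (n + 1) = E n → E n = ⊥) {c : ℕ} (hc : Nat.card Q ≤ c) : E c = ⊥ := by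
  suffices h : ∀ n, E n = ⊥ ∨ Nat.card (E n) + n ≤ Nat.card Q by
    rcases h c with h' | h'
    · exact h'
    · have : 0 < Nat.card (E c) := Nat.card_pos
      omega
  intro n
  induction n with
  | zero => exact Or.inr (by simpa using Subgroup.card_le_card_group (E 0))
  | succ n ih =>
    rcases ih with h | h
    · exact Or.inl (le_bot_iff.1 (h ▸ hE n.le_succ))
    · by_cases he : E (n + 1) = E n
      · exact Or.inl (le_bot_iff.1 ((hE n.le_succ).trans (hst n he).le))
      · refine Or.inr ?_
        have hlt : E (n + 1) < E n := lt_of_le_of_ne (hE n.le_succ) he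
        have : Nat.card (E (n + 1)) < Nat.card (E n) :=
          (Set.toFinite (E n : Set Q)).card_lt_card (SetLike.coe_ssubset_coe.2 hlt)
        omega

theorem derived_stationary {Q : Type*} [Group Q] (h : ∃ m, derivedSeries Q m = ⊥) (n : ℕ)
    (he : derivedSeries Q (n + 1) = derivedSeries Q n) : derivedSeries Q n = ⊥ := by
  obtain ⟨m, hm⟩ := h
  have : ∀ j, derivedSeries Q (n + j) = derivedSeries Q n := fun j => by
    induction j with
    | zero => rfl
    | succ j ih =>
      show ⁅derivedSeries Q (n + j), derivedSeries Q (n + j)⁆ = _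
      rw [ih]
      exact he
  rw [← this m, eq_bot_iff, ← hm]
  exact derivedSeries_antitone Q (by omega)

theorem lcs_stationary {Q : Type*} [Group Q] (h : ∃ m, (⊤ : Subgroup Q).lowerCentralSeries m = ⊥) (n : ℕ)
    (he : (⊤ : Subgroup Q).lowerCentralSeries (n + 1) = (⊤ : Subgroup Q).lowerCentralSeries n) :
    (⊤ : Subgroup Q).lowerCentralSeries n = ⊥ := by
  obtain ⟨m, hm⟩ := h
  have : ∀ j, (⊤ : Subgroup Q).lowerCentralSeries (n + j) = (⊤ : Subgroup Q).lowerCentralSeries n := fun j => by
    induction j with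
    | zero => rfl
    | succ j ih =>
      show ⁅(⊤ : Subgroup Q).lowerCentralSeries (n + j), _⁆ = _
      rw [ih]
      exact he
  rw [← this m, eq_bot_iff, ← hm]
  exact Subgroup.lowerCentralSeries_antitone _ (by omega)

variable {k : Type u} [Field k] [IsAlgClosed k] {G : Over (Spec (CommRingCat.of k))} [GrpObj G]

theorem isReduced_unit : IsReduced (𝟙_ (Over (Spec (CommRingCat.of k)))).left :=
  inferInstanceAs (IsReduced (Spec (CommRingCat.of k)))

local notation "Γ₀" => (𝟙_ (Over (Spec (CommRingCat.of k))) ⟶ G)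

/-- The set swept out by a set of rational points. -/
def ptsSet (E : Subgroup Γ₀) : Set G.left := closure ((fun x : Γ₀ => x.left base₀) '' (E : Set Γ₀))

theorem ptsSet_mono {E E' : Subgroup Γ₀} (h : E ≤ E') : ptsSet E ⊆ ptsSet E' :=
  closure_mono (Set.image_mono h)

theorem unit_mem_ptsSet (E : Subgroup Γ₀) : GrpSchLib.unitPt G ∈ ptsSet E :=
  subset_closure ⟨1, E.one_mem, GrpSchLib.one_apply _ _⟩

/-- The rational points of a closed connected smooth subgroup. -/
theorem props_of_scheme [Smooth G.hom] (C : Over (Spec (CommRingCat.of k))) [GrpObj C] (i : C ⟶ G)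
    [IsMonHom i] [IsClosedImmersion i.left] [ConnectedSpace C.left] :
    IsIrreducible (ptsSet (ptsHom i).range) ∧ ∀ x : Γ₀, x.left base₀ ∈ ptsSet (ptsHom i).range → x ∈ (ptsHom i).range := by
  haveI : LocallyOfFiniteType C.hom := by rw [← Over.w i]; infer_instance
  haveI : JacobsonSpace C.left := LocallyOfFiniteType.jacobsonSpace C.hom
  haveI := GrpSchLib.irreducibleSpace_of_connectedSpace (G := C)
  have hr : ptsSet (ptsHom i).range = Set.range i.left := by
    refine Set.Subset.antisymm (closure_minimal ?_ i.left.isClosedEmbedding.isClosed_range) ?_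
    · rintro _ ⟨_, ⟨c, rfl⟩, rfl⟩
      exact ⟨c.left base₀, rfl⟩
    · rintro _ ⟨w, rfl⟩
      have hw : w ∈ closure (closedPoints C.left) := closure_closedPoints (X := C.left) ▸ Set.mem_univ w
      refine map_mem_closure i.left.continuous hw fun v hv => ?_
      obtain ⟨c, rfl⟩ := exists_pt (P := C) hv
      exact ⟨c ≫ i, ⟨c, rfl⟩, rfl⟩
  rw [hr]
  refine ⟨?_, fun x hx => ?_⟩
  · rw [← Set.image_univ]
    exact (IrreducibleSpace.isIrreducible_univ C.left).image _ i.left.continuous.continuousOn
  · haveI := isReduced_unit (k := k)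
    obtain ⟨c, hc⟩ := exists_lift_of_range i x (by
      rintro _ ⟨t, rfl⟩
      rw [Subsingleton.elim (α := PrimeSpectrum k) t base₀]
      exact hx)
    exact ⟨c, hc⟩

/-- One step of a series: commutators with a subgroup. -/
theorem exists_step [Smooth G.hom] [QuasiCompact G.hom]
    (C : Over (Spec (CommRingCat.of k))) [GrpObj C] (a : C ⟶ G) [IsMonHom a] [IsClosedImmersion a.left]
    [ConnectedSpace C.left] [Smooth C.hom]
    (B : Over (Spec (CommRingCat.of k))) [GrpObj B] (b : B ⟶ G) [IsMonHom b] [IsClosedImmersion b.left] [Smooth B.hom] :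
    ∃ (D : Over (Spec (CommRingCat.of k))) (_ : GrpObj D) (i : D ⟶ G) (_ : IsMonHom i),
      IsClosedImmersion i.left ∧ Smooth D.hom ∧ ConnectedSpace D.left ∧
      (ptsHom i).range = ⁅(ptsHom a).range, (ptsHom b).range⁆ := by
  haveI : QuasiCompact B.hom := by rw [← Over.w b]; infer_instance
  haveI : GeometricallyReduced C.hom := AVLib.geometricallyReduced_of_smooth C.hom
  haveI : GeometricallyReduced B.hom := AVLib.geometricallyReduced_of_smooth B.hom
  haveI := geometricallyReduced_tensor C B
  obtain ⟨D, hD, i, hi, hci, -, hgr, -, hfac, -, hmin⟩ :=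
    exists_generated (X := fun _ : PUnit.{1} => C ⊗ B) (fun _ : PUnit.{1} => commMap a b)
  letI := hD
  haveI := hi
  haveI := hci
  haveI := hgr
  haveI : LocallyOfFiniteType D.hom := by rw [← Over.w i]; infer_instance
  have hmin' := fun Γ' h' i' h1 h2 h3 => hmin Γ' h' i' h1 h2 fun _ : PUnit.{1} => h3
  refine ⟨D, hD, i, hi, hci, @smooth_of_grpObj _ _ _ D.hom ‹LocallyOfFiniteType D.hom› hD hgr,
    (commutator_props a b D i (hfac PUnit.unit) hmin' (Or.inr ‹_›)).2 ‹_›, ?_⟩
  apply SetLike.coe_injective
  rw [MonoidHom.coe_range]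
  show Set.range (fun z : 𝟙_ (Over (Spec (CommRingCat.of k))) ⟶ D => z ≫ i) = _
  rw [range_pts_of_min a b (Or.inr ‹_›) D i (hfac PUnit.unit) hmin']
  have ea : Subgroup.closure (Set.range (fun x : 𝟙_ (Over (Spec (CommRingCat.of k))) ⟶ C => x ≫ a)) = (ptsHom a).range :=
    (congrArg Subgroup.closure (MonoidHom.coe_range (ptsHom a)).symm).trans (Subgroup.closure_eq _)
  have eb : Subgroup.closure (Set.range (fun x : 𝟙_ (Over (Spec (CommRingCat.of k))) ⟶ B => x ≫ b)) = (ptsHom b).range :=
    (congrArg Subgroup.closure (MonoidHom.coe_range (ptsHom b)).symm).trans (Subgroup.closure_eq _)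
  rw [ea, eb]

/-- The component of the unit. -/
theorem exists_idComp [Smooth G.hom] :
    ∃ (D : Over (Spec (CommRingCat.of k))) (_ : GrpObj D) (i : D ⟶ G) (_ : IsMonHom i),
      IsClosedImmersion i.left ∧ Smooth D.hom ∧ ConnectedSpace D.left ∧ (ptsHom i).range = idPts G := by
  obtain ⟨N, hN, i, hi, hci, hred, hr⟩ := MonoFibre.exists_redSubgroup (G := G) (GrpSchLib.idComp G)
    isClosed_irreducibleComponent mem_irreducibleComponent AVLib.mul_mem_idComp AVLib.inv_mem_idComp
  letI := hN
  haveI := hci
  haveI := hred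
  haveI := hi
  haveI : LocallyOfFiniteType N.hom := by rw [← Over.w i]; infer_instance
  haveI : ConnectedSpace N.left := by
    haveI : IrreducibleSpace N.left := by
      refine i.left.isEmbedding.toHomeomorph.irreducibleSpace_iff.mpr (isIrreducible_iff_irreducibleSpace.mp ?_)
      rw [hr]
      exact isIrreducible_irreducibleComponent
    infer_instance
  haveI hgr := AVLib.geometricallyReduced_of_perfect N.hom
  refine ⟨N, hN, i, hi, hci, @smooth_of_grpObj _ _ _ N.hom ‹LocallyOfFiniteType N.hom› hN hgr, inferInstance, ?_⟩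
  ext x
  constructor
  · rintro ⟨c, rfl⟩
    exact hr.le ⟨c.left base₀, rfl⟩
  · intro hx
    haveI := isReduced_unit (k := k)
    obtain ⟨c, hc⟩ := exists_lift_of_range i x (by
      rintro _ ⟨t, rfl⟩
      rw [Subsingleton.elim (α := PrimeSpectrum k) t base₀, hr]
      exact hx)
    exact ⟨c, hc⟩

/-- A series of connected subgroups which only stabilises at the trivial group has length at most the dimension. -/
theorem eq_bot_of_dim (E : ℕ → Subgroup Γ₀) (hE : Antitone E) (hst : ∀ n, E (n + 1) = E n → E n = ⊥)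
    (hirr : ∀ n, IsIrreducible (ptsSet (E n)) ∧ ∀ x : Γ₀, x.left base₀ ∈ ptsSet (E n) → x ∈ E n)
    (V : G.left.Opens) (hV : GrpSchLib.unitPt G ∈ V) {N : ℕ}
    (hN : topologicalKrullDim ↥(V : Set G.left) ≤ (N : WithBot ℕ∞)) : E (N + 1) = ⊥ := by
  by_contra hne
  have hstrict : ∀ n ≤ N, E (n + 1) ≠ E n := fun n hn he =>
    hne (le_bot_iff.1 ((hE (by omega : n ≤ N + 1)).trans (hst n he).le))
  let Z : ℕ → TopologicalSpace.IrreducibleCloseds ↥(V : Set G.left) := fun n =>
    { carrier := Subtype.val ⁻¹' ptsSet (E n)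
      isIrreducible' := ⟨⟨⟨_, hV⟩, unit_mem_ptsSet (E n)⟩,
        (hirr n).1.isPreirreducible.preimage V.2.isOpenEmbedding_subtypeVal⟩
      isClosed' := isClosed_closure.preimage continuous_subtype_val }
  have hZle : ∀ n, n ≤ N → (Z (n + 1) : Set ↥(V : Set G.left)) ⊂ Z n := fun n hn => by
    refine ⟨fun z hz => ptsSet_mono (hE n.le_succ) hz, fun h => hstrict n hn ?_⟩
    refine le_antisymm (hE n.le_succ) fun x hx => (hirr (n + 1)).2 x ?_
    have hsub : ptsSet (E n) ∩ V ⊆ ptsSet (E (n + 1)) := fun z hz =>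
      h (show (⟨z, hz.2⟩ : ↥(V : Set G.left)) ∈ (Z n : Set _) from hz.1)
    have hd : ptsSet (E n) ⊆ closure (ptsSet (E n) ∩ V) :=
      subset_closure_inter_of_isPreirreducible_of_isOpen (hirr n).1.isPreirreducible V.2 ⟨_, unit_mem_ptsSet (E n), hV⟩
    exact ((hd.trans (closure_mono hsub)).trans isClosed_closure.closure_subset) (subset_closure ⟨x, hx, rfl⟩)
  let s : LTSeries (TopologicalSpace.IrreducibleCloseds ↥(V : Set G.left)) :=
    { length := N + 1
      toFun := fun j => Z (N + 1 - j.val)
      step := fun j => by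
        have e : N + 1 - (j.castSucc : ℕ) = (N - j.val) + 1 := by simp; omega
        have e' : N + 1 - (j.succ : ℕ) = N - j.val := by simp
        show Z (N + 1 - (j.castSucc : ℕ)) < Z (N + 1 - (j.succ : ℕ))
        rw [e, e']
        exact hZle _ (by omega) }
  have := (Order.LTSeries.length_le_krullDim s).trans hN
  have h' : N + 1 ≤ N := by exact_mod_cast this
  omega

theorem idPts_normal : (idPts G).Normal := by
  refine ⟨fun x hx g => ?_⟩
  let t : G ⟶ G := (toUnit G ≫ g) * 𝟙 G * (toUnit G ≫ g)⁻¹
  have ht : ∀ y : Γ₀, y ≫ t = g * y * g⁻¹ := fun y => by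
    rw [MonObj.comp_mul, MonObj.comp_mul, GrpObj.comp_inv, ← Category.assoc, toUnit_unique (y ≫ toUnit G) (𝟙 _),
      Category.id_comp, Category.comp_id]
  show (g * x * g⁻¹).left base₀ ∈ GrpSchLib.idComp G
  have hx' : x.left base₀ ∈ connectedComponent (GrpSchLib.unitPt G) := by
    rw [GrpSchLib.connectedComponent_eq]; exact hx
  have h := t.left.continuous.image_connectedComponent_subset _ ⟨_, hx', rfl⟩
  have he : t.left (GrpSchLib.unitPt G) = GrpSchLib.unitPt G := by
    have h1 := congrArg (fun φ : Γ₀ => φ.left base₀) (ht 1)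
    dsimp only at h1
    rw [_root_.mul_one, mul_inv_cancel, Over.comp_left, Scheme.Hom.comp_apply, GrpSchLib.one_apply] at h1
    exact h1
  rw [he, GrpSchLib.connectedComponent_eq] at h
  rw [← ht, Over.comp_left, Scheme.Hom.comp_apply]
  exact h

/-- The quotient by the component of the unit has at most as many elements as there are components. -/
theorem card_quotient_le [LocallyOfFiniteType G.hom] [Finite (_root_.ConnectedComponents G.left)] :
    Finite (Γ₀ ⧸ idPts G) ∧ Nat.card (Γ₀ ⧸ idPts G) ≤ Nat.card (_root_.ConnectedComponents G.left) := by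
  have hwd : ∀ r x : Γ₀, ConnectedComponents.mk (r.left base₀) = ConnectedComponents.mk (x.left base₀) →
      r⁻¹ * x ∈ idPts G := fun r x hcr => by
    have hmem : x.left base₀ ∈ connectedComponent (r.left base₀) :=
      ConnectedComponents.coe_eq_coe'.1 hcr.symm
    have h := (leftT r⁻¹).left.continuous.image_connectedComponent_subset _ ⟨_, hmem, rfl⟩
    have hT : ∀ w : Γ₀, (leftT r⁻¹).left (w.left base₀) = (r⁻¹ * w).left base₀ :=
      fun w => by rw [← Scheme.Hom.comp_apply, ← Over.comp_left, comp_leftT, toUnit_unit, Category.id_comp]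
    rw [hT, hT, inv_mul_cancel, GrpSchLib.one_apply, GrpSchLib.connectedComponent_eq] at h
    exact h
  let F : (Γ₀ ⧸ idPts G) → _root_.ConnectedComponents G.left := fun q => ConnectedComponents.mk (q.out.left base₀)
  have hF : Function.Injective F := fun a b h => by
    rw [← QuotientGroup.out_eq' a, ← QuotientGroup.out_eq' b]
    exact QuotientGroup.eq.2 (hwd _ _ h)
  exact ⟨Finite.of_injective F hF, Nat.card_le_card_of_injective F hF⟩

variable [Smooth G.hom] [QuasiCompact G.hom] [Finite (_root_.ConnectedComponents G.left)]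
  {c N : ℕ} (hc : Nat.card (_root_.ConnectedComponents G.left) ≤ c)
  (V : G.left.Opens) (hV : GrpSchLib.unitPt G ∈ V) (hN : topologicalKrullDim ↥(V : Set G.left) ≤ (N : WithBot ℕ∞))

include hc hV hN

/-- The derived length of a solvable group is bounded. -/
theorem derivedSeries_bound (h : ∃ m, derivedSeries Γ₀ m = ⊥) : derivedSeries Γ₀ (c + (N + 1)) = ⊥ := by
  haveI := idPts_normal (G := G)
  obtain ⟨hfin, hcard⟩ := card_quotient_le (G := G)
  obtain ⟨m, hm⟩ := h
  have hq : derivedSeries (Γ₀ ⧸ idPts G) c = ⊥ := by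
    refine eq_bot_of_card _ (derivedSeries_antitone _) (derived_stationary ⟨m, ?_⟩) (hcard.trans hc)
    rw [← map_derivedSeries_eq (QuotientGroup.mk'_surjective (idPts G)), hm, Subgroup.map_bot]
  have hle : derivedSeries Γ₀ c ≤ idPts G := by
    intro x hx
    have := Subgroup.mem_map_of_mem (QuotientGroup.mk' (idPts G)) hx
    rw [map_derivedSeries_eq (QuotientGroup.mk'_surjective (idPts G)), hq, Subgroup.mem_bot] at this
    exact (QuotientGroup.eq_one_iff x).1 this
  let E : ℕ → Subgroup Γ₀ := fun j => Nat.rec (idPts G) (fun _ S => ⁅S, S⁆) j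
  have hsch : ∀ j, ∃ (D : Over (Spec (CommRingCat.of k))) (_ : GrpObj D) (i : D ⟶ G) (_ : IsMonHom i),
      IsClosedImmersion i.left ∧ Smooth D.hom ∧ ConnectedSpace D.left ∧ (ptsHom i).range = E j := by
    intro j
    induction j with
    | zero => exact exists_idComp
    | succ j ih =>
      obtain ⟨C, hC, a, ha, hca, hCs, hCc, hrange⟩ := ih
      letI := hC
      haveI := ha
      haveI := hca
      haveI := hCs
      haveI := hCc
      obtain ⟨D, hD, i, hi, h1, h2, h3, h4⟩ := exists_step C a C a
      exact ⟨D, hD, i, hi, h1, h2, h3, h4.trans (by rw [hrange])⟩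
  have hanti : Antitone E := antitone_nat_of_succ_le fun j => by
    show ⁅E j, E j⁆ ≤ E j
    rw [Subgroup.commutator_le]
    intro a ha b hb
    rw [commutatorElement_def]
    exact mul_mem (mul_mem (mul_mem ha hb) (inv_mem ha)) (inv_mem hb)
  have hsub : ∀ j, E j ≤ derivedSeries Γ₀ 0 := fun j => le_top
  have hst : ∀ j, E (j + 1) = E j → E j = ⊥ := fun j he => by
    have : ∀ i, E j ≤ derivedSeries Γ₀ i := fun i => by
      induction i with
      | zero => exact hsub j
      | succ i ih => exact he ▸ Subgroup.commutator_mono ih ih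
    exact le_bot_iff.1 (hm ▸ this m)
  have hirr : ∀ j, IsIrreducible (ptsSet (E j)) ∧ ∀ x : Γ₀, x.left base₀ ∈ ptsSet (E j) → x ∈ E j := fun j => by
    obtain ⟨C, hC, a, ha, hca, -, hCc, hrange⟩ := hsch j
    letI := hC
    haveI := ha
    haveI := hca
    haveI := hCc
    exact hrange ▸ props_of_scheme C a
  have hcomp : ∀ j, derivedSeries Γ₀ (c + j) ≤ E j := fun j => by
    induction j with
    | zero => exact hle
    | succ j ih => exact Subgroup.commutator_mono ih ih
  exact le_bot_iff.1 ((hcomp _).trans (eq_bot_of_dim E hanti hst hirr V hV hN).le)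

/-- The class of a nilpotent group is bounded. -/
theorem lcs_bound (h : ∃ m, (⊤ : Subgroup Γ₀).lowerCentralSeries m = ⊥) :
    (⊤ : Subgroup Γ₀).lowerCentralSeries (c + (N + 1)) = ⊥ := by
  haveI := idPts_normal (G := G)
  obtain ⟨hfin, hcard⟩ := card_quotient_le (G := G)
  obtain ⟨m, hm⟩ := h
  have hmap : ∀ n, ((⊤ : Subgroup Γ₀).lowerCentralSeries n).map (QuotientGroup.mk' (idPts G)) =
      (⊤ : Subgroup (Γ₀ ⧸ idPts G)).lowerCentralSeries n := fun n => by
    rw [Subgroup.map_lowerCentralSeries, Subgroup.map_top_of_surjective _ (QuotientGroup.mk'_surjective (idPts G))]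
  have hq : (⊤ : Subgroup (Γ₀ ⧸ idPts G)).lowerCentralSeries c = ⊥ := by
    refine eq_bot_of_card _ (Subgroup.lowerCentralSeries_antitone _) (lcs_stationary ⟨m, ?_⟩) (hcard.trans hc)
    rw [← hmap, hm, Subgroup.map_bot]
  have hle : (⊤ : Subgroup Γ₀).lowerCentralSeries c ≤ idPts G := by
    intro x hx
    have := Subgroup.mem_map_of_mem (QuotientGroup.mk' (idPts G)) hx
    rw [hmap, hq, Subgroup.mem_bot] at this
    exact (QuotientGroup.eq_one_iff x).1 this
  let E : ℕ → Subgroup Γ₀ := fun j => Nat.rec (idPts G) (fun _ S => ⁅S, ⊤⁆) j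
  have hid : (ptsHom (𝟙 G)).range = ⊤ := MonoidHom.range_eq_top.2 fun g => ⟨g, Category.comp_id g⟩
  haveI : IsClosedImmersion (𝟙 G : G ⟶ G).left := inferInstanceAs (IsClosedImmersion (𝟙 G.left))
  have hsch : ∀ j, ∃ (D : Over (Spec (CommRingCat.of k))) (_ : GrpObj D) (i : D ⟶ G) (_ : IsMonHom i),
      IsClosedImmersion i.left ∧ Smooth D.hom ∧ ConnectedSpace D.left ∧ (ptsHom i).range = E j := by
    intro j
    induction j with
    | zero => exact exists_idComp
    | succ j ih =>
      obtain ⟨C, hC, a, ha, hca, hCs, hCc, hrange⟩ := ih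
      letI := hC
      haveI := ha
      haveI := hca
      haveI := hCs
      haveI := hCc
      obtain ⟨D, hD, i, hi, h1, h2, h3, h4⟩ := exists_step C a G (𝟙 G)
      exact ⟨D, hD, i, hi, h1, h2, h3, h4.trans (by rw [hrange, hid])⟩
  have hnorm : ∀ j, (E j).Normal := fun j => by
    induction j with
    | zero => exact idPts_normal
    | succ j ih => haveI := ih; exact Subgroup.commutator_normal _ _
  have hanti : Antitone E := antitone_nat_of_succ_le fun j => by
    haveI := hnorm j
    exact Subgroup.commutator_le_left (E j) ⊤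
  have hst : ∀ j, E (j + 1) = E j → E j = ⊥ := fun j he => by
    have : ∀ i, E j ≤ (⊤ : Subgroup Γ₀).lowerCentralSeries i := fun i => by
      induction i with
      | zero => exact le_top
      | succ i ih => exact he ▸ Subgroup.commutator_mono ih le_rfl
    exact le_bot_iff.1 (hm ▸ this m)
  have hirr : ∀ j, IsIrreducible (ptsSet (E j)) ∧ ∀ x : Γ₀, x.left base₀ ∈ ptsSet (E j) → x ∈ E j := fun j => by
    obtain ⟨C, hC, a, ha, hca, -, hCc, hrange⟩ := hsch j
    letI := hC
    haveI := ha
    haveI := hca
    haveI := hCc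
    exact hrange ▸ props_of_scheme C a
  have hcomp : ∀ j, (⊤ : Subgroup Γ₀).lowerCentralSeries (c + j) ≤ E j := fun j => by
    induction j with
    | zero => exact hle
    | succ j ih => exact Subgroup.commutator_mono ih le_rfl
  exact le_bot_iff.1 ((hcomp _).trans (eq_bot_of_dim E hanti hst hirr V hV hN).le)

end Groth.Agent.SolvLocusLib

end
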